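import Cfsg.Agent.H916.RG.Pair_m3
import Cfsg.Agent.S0243
import Cfsg.Agent.S0245
import Cfsg.Agent.S0246
import Cfsg.Agent.S0256
import Cfsg.Agent.S0280
import Cfsg.Agent.S0292
import Cfsg.Agent.S0293
import Cfsg.Agent.S0294
import Cfsg.Agent.S2550
import Cfsg.Agent.LieClassical.SLGen
import Cfsg.Agent.FastGrp
import Cfsg.Agent.Prune
set_option linter.all false

section
prune_inst 0x7f00000000000000000000000000000000000000000000000000000000000000000000000000000000000000000000000000000000000000000000000000000000000000000000000000000000000000003fffffffffffffffffffffffffffbeffbdffffffff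

-- part: H106/RC/Ari
section
set_option linter.all false
open scoped Cfsg.Agent.FastGrp

/-!
# Which classical groups are exceptional (`A5`, `A6`, `A8`)
-/

set_option autoImplicit false
open Cfsg

namespace Cfsg.Agent.H106.RC

theorem card_alt (n : ℕ) (hn : 2 ≤ n) : 2 * Nat.card (alternatingGroup (Fin n)) = n.factorial := by
  have : Nontrivial (Fin n) := Fin.nontrivial_iff_two_le.2 hn
  have := two_mul_card_alternatingGroup (α := Fin n)
  rw [Fintype.card_perm, Fintype.card_fin] at this
  rw [Nat.card_eq_fintype_card]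
  exact this

theorem Exc.card {S : Type*} [Group S] (h : Exc S) :
    Nat.card S = 60 ∨ Nat.card S = 360 ∨ Nat.card S = 20160 := by
  have hc := card_alt
  rcases h with ⟨⟨e⟩⟩ | ⟨⟨e⟩⟩ | ⟨⟨e⟩⟩
  · left
    have h1 := hc 5 (by norm_num)
    rw [← Nat.card_congr e.toEquiv] at h1
    norm_num [Nat.factorial] at h1
    omega
  · right; left
    have h1 := hc 6 (by norm_num)
    rw [← Nat.card_congr e.toEquiv] at h1
    norm_num [Nat.factorial] at h1
    omega
  · right; right
    have h1 := hc 8 (by norm_num)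
    rw [← Nat.card_congr e.toEquiv] at h1
    norm_num [Nat.factorial] at h1
    omega

theorem pow_dvd_small {q k : ℕ} (hq : 2 ≤ q) (hk : 9 ≤ k) {N : ℕ}
    (hN : N = 60 ∨ N = 360 ∨ N = 20160) (h : q ^ k ∣ N) : False := by
  have h1 : q ^ 9 ∣ N := (pow_dvd_pow q hk).trans h
  have hN0 : 0 < N := by omega
  have h2 := Nat.le_of_dvd hN0 h1
  have hq3 : q ≤ 3 := by
    by_contra hlt
    push Not at hlt
    have : 4 ^ 9 ≤ q ^ 9 := Nat.pow_le_pow_left hlt 9
    omega
  interval_cases q
  · norm_num at h1
    omega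
  · norm_num at h1
    omega

theorem two_le_card (F : Type*) [Field F] [Fintype F] : 2 ≤ Fintype.card F := Fintype.one_lt_card

theorem cop_of_dvd_sub {q d : ℕ} (hq : 2 ≤ q) (k : ℕ) (hk : k ≠ 0) (h : d ∣ q ^ k - 1) : d.Coprime q := by
  apply Nat.Coprime.coprime_dvd_left h
  have h1 : (q ^ k - 1).Coprime (q ^ k) := by
    have : 1 ≤ q ^ k := Nat.one_le_pow _ _ (by omega)
    have h2 := Nat.coprime_self_add_right (m := q ^ k - 1) (n := 1)
    rw [Nat.sub_add_cancel this] at h2
    exact h2.2 (Nat.coprime_one_right _)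
  exact Nat.Coprime.coprime_dvd_right (dvd_pow_self q hk) h1

theorem cop_of_dvd_add {q d : ℕ} (k : ℕ) (hk : k ≠ 0) (h : d ∣ q ^ k + 1) : d.Coprime q := by
  apply Nat.Coprime.coprime_dvd_left h
  have h1 : (q ^ k + 1).Coprime (q ^ k) := by
    have h2 := Nat.coprime_self_add_left (m := q ^ k) (n := 1)
    exact h2.2 (Nat.coprime_one_left _)
  exact Nat.Coprime.coprime_dvd_right (dvd_pow_self q hk) h1

theorem psl_exc {F : Type*} [Field F] [Fintype F] {n : ℕ} (hn : 2 ≤ n)
    (h : Exc (Matrix.ProjectiveSpecialLinearGroup (Fin n) F)) :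
    (n = 2 ∧ (Fintype.card F = 4 ∨ Fintype.card F = 5 ∨ Fintype.card F = 9)) ∨
      (n = 4 ∧ Fintype.card F = 2) := by
  have hN := h.card
  have hq := two_le_card F
  have hord := S0243.result (F := F) rfl n hn
  set q := Fintype.card F with hqdef
  set N := Nat.card (Matrix.ProjectiveSpecialLinearGroup (Fin n) F) with hNdef
  have hN0 : 0 < N := by omega
  rcases Nat.lt_or_ge n 5 with hn5 | hn5
  · interval_cases n
    · -- n = 2
      left
      refine ⟨rfl, ?_⟩
      simp only [Fin.prod_univ_succ, Fin.prod_univ_zero] at hord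
      norm_num only [_root_.Fin.coe_ofNat_eq_mod, _root_.pow_zero, _root_.Fin.succ_zero_eq_one, _root_.pow_one, _root_.mul_one] at hord
      have hg : Nat.gcd 2 (q - 1) ≤ 2 := Nat.gcd_le_left _ (by norm_num)
      have hg1 : 1 ≤ Nat.gcd 2 (q - 1) := Nat.gcd_pos_of_pos_left _ (by norm_num)
      have hq35 : q ≤ 35 := by
        by_contra hlt
        push Not at hlt
        -- (q-1) * N * g = (q^2-1)(q^2-q)
        clear_value q
        obtain ⟨t, rfl⟩ : ∃ t, q = t + 1 := ⟨q - 1, by omega⟩
        simp only [Nat.add_sub_cancel] at hord hg hg1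
        have e1 : (t + 1) ^ 2 - 1 = t * (t + 2) := by
          have : (t + 1) ^ 2 = t * (t + 2) + 1 := by ring
          omega
        have e2 : (t + 1) ^ 2 - (t + 1) = t * (t + 1) := by
          have : (t + 1) ^ 2 = t * (t + 1) + (t + 1) := by ring
          omega
        rw [e1, e2] at hord
        have ht : 0 < t := by omega
        have h1 : Nat.gcd 2 t * N = t * (t + 2) * (t + 1) := by
          have : t * (Nat.gcd 2 t * N) = t * (t * (t + 2) * (t + 1)) := by
            calc t * (Nat.gcd 2 t * N) = Nat.gcd 2 t * (t * N) := by ring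
              _ = t * (t + 2) * (t * (t + 1)) := hord
              _ = _ := by ring
          exact Nat.eq_of_mul_eq_mul_left ht this
        have h2 : Nat.gcd 2 t * N ≤ 2 * 20160 := Nat.mul_le_mul hg (by omega)
        have h3 : 35 * 37 * 36 ≤ t * (t + 2) * (t + 1) := by
          have a1 : 35 ≤ t := by omega
          exact Nat.mul_le_mul (Nat.mul_le_mul a1 (by omega)) (by omega)
        omega
      interval_cases q <;> norm_num only [_root_.one_mul, _root_.or_self, _root_.or_false, _root_.or_true] at hord hg hg1 ⊢ <;> (clear * - hN hNdef hord; omega)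
    · -- n = 3
      exfalso
      simp only [Fin.prod_univ_succ, Fin.prod_univ_zero] at hord
      norm_num only [_root_.Fin.coe_ofNat_eq_mod, _root_.pow_zero, _root_.Fin.succ_zero_eq_one, _root_.pow_one, _root_.Fin.succ_one_eq_two, _root_.mul_one] at hord
      have hg : Nat.gcd 3 (q - 1) ≤ 3 := Nat.gcd_le_left _ (by norm_num)
      have hd : q ^ 3 ∣ N := by
        have hc : (Nat.gcd 3 (q - 1) * (q - 1)).Coprime (q ^ 3) := by
          apply Nat.Coprime.pow_right
          apply Nat.Coprime.mul_left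
          · exact cop_of_dvd_sub hq 1 one_ne_zero (by rw [pow_one]; exact Nat.gcd_dvd_right _ _)
          · exact cop_of_dvd_sub hq 1 one_ne_zero (by rw [pow_one])
        apply hc.symm.dvd_of_dvd_mul_left
        rw [mul_assoc, hord]
        have d1 : q ∣ q ^ 3 - q := Nat.dvd_sub (dvd_pow_self q (by norm_num)) dvd_rfl
        have d2 : q ^ 2 ∣ q ^ 3 - q ^ 2 := Nat.dvd_sub (pow_dvd_pow q (by norm_num)) dvd_rfl
        have d3 : q ^ 3 = q * q ^ 2 := by ring
        exact (dvd_of_eq d3).trans (Dvd.dvd.mul_left (Nat.mul_dvd_mul d1 d2) _)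
      have h3 := Nat.le_of_dvd hN0 hd
      have hq27 : q ≤ 27 := by
        by_contra hlt
        push Not at hlt
        have : 28 ^ 3 ≤ q ^ 3 := Nat.pow_le_pow_left hlt 3
        omega
      have h4 : q = 4 := by
        by_contra h4
        interval_cases q <;> norm_num only [_root_.one_mul] at hord hd hg h4 <;> (clear * - hN hNdef hord; omega)
      -- PSL_3(4) is not A8
      have hcard : N = 20160 := by
        rw [h4] at hord
        norm_num at hord
        omega
      rcases h with ⟨⟨e⟩⟩ | ⟨⟨e⟩⟩ | ⟨⟨e⟩⟩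
      · have := (Exc.card (S := Matrix.ProjectiveSpecialLinearGroup (Fin 3) F) (Or.inl ⟨e⟩))
        have h5 : N = Nat.card (alternatingGroup (Fin 5)) := hNdef.trans (Nat.card_congr e.toEquiv)
        have h6 := card_alt 5 (by norm_num)
        rw [← h5, hcard] at h6
        norm_num [Nat.factorial] at h6
      · have h5 : N = Nat.card (alternatingGroup (Fin 6)) := hNdef.trans (Nat.card_congr e.toEquiv)
        have h6 := card_alt 6 (by norm_num)
        rw [← h5, hcard] at h6
        norm_num [Nat.factorial] at h6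
      · have h5 := (S2550.result (F := ZMod 2) (K := F) (by simp [ZMod.card]) (by rw [← hqdef, h4])).2
        obtain ⟨f⟩ := S0256.result (F := ZMod 2) (by simp [ZMod.card])
        exact h5 ⟨f.trans e.symm⟩
    · -- n = 4
      right
      refine ⟨rfl, ?_⟩
      simp only [Fin.prod_univ_succ, Fin.prod_univ_zero] at hord
      norm_num only [_root_.Fin.coe_ofNat_eq_mod, _root_.pow_zero, _root_.Fin.succ_zero_eq_one, _root_.pow_one, _root_.Fin.succ_one_eq_two, _root_.Fin.val_succ, _root_.mul_one] at hord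
      have hg : Nat.gcd 4 (q - 1) ≤ 4 := Nat.gcd_le_left _ (by norm_num)
      have hd : q ^ 6 ∣ N := by
        have hc : (Nat.gcd 4 (q - 1) * (q - 1)).Coprime (q ^ 6) := by
          apply Nat.Coprime.pow_right
          apply Nat.Coprime.mul_left
          · exact cop_of_dvd_sub hq 1 one_ne_zero (by rw [pow_one]; exact Nat.gcd_dvd_right _ _)
          · exact cop_of_dvd_sub hq 1 one_ne_zero (by rw [pow_one])
        apply hc.symm.dvd_of_dvd_mul_left
        rw [mul_assoc, hord]
        have d1 : q ∣ q ^ 4 - q := Nat.dvd_sub (dvd_pow_self q (by norm_num)) dvd_rfl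
        have d2 : q ^ 2 ∣ q ^ 4 - q ^ 2 := Nat.dvd_sub (pow_dvd_pow q (by norm_num)) dvd_rfl
        have d4 : q ^ 3 ∣ q ^ 4 - q ^ 3 := Nat.dvd_sub (pow_dvd_pow q (by norm_num)) dvd_rfl
        have d3 : q ^ 6 = q * (q ^ 2 * q ^ 3) := by ring
        exact (dvd_of_eq d3).trans (Dvd.dvd.mul_left (Nat.mul_dvd_mul d1 (Nat.mul_dvd_mul d2 d4)) _)
      have h3 := Nat.le_of_dvd hN0 hd
      have hq5 : q ≤ 5 := by
        by_contra hlt
        push Not at hlt
        have : 6 ^ 6 ≤ q ^ 6 := Nat.pow_le_pow_left hlt 6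
        omega
      interval_cases q <;> norm_num at hd ⊢ <;> (clear * - hN hNdef hd; omega)
  · exfalso
    refine pow_dvd_small hq (k := 10) (by norm_num) hN ?_
    have hc : (Nat.gcd n (q - 1) * (q - 1)).Coprime (q ^ 10) := by
      apply Nat.Coprime.pow_right
      apply Nat.Coprime.mul_left
      · exact cop_of_dvd_sub hq 1 one_ne_zero (by rw [pow_one]; exact Nat.gcd_dvd_right _ _)
      · exact cop_of_dvd_sub hq 1 one_ne_zero (by rw [pow_one])
    apply hc.symm.dvd_of_dvd_mul_left
    rw [mul_assoc, hord]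
    have h1 : ∏ i : Fin n, q ^ (i : ℕ) ∣ ∏ i : Fin n, (q ^ n - q ^ (i : ℕ)) := by
      apply Finset.prod_dvd_prod_of_dvd
      intro i _
      exact Nat.dvd_sub (pow_dvd_pow q i.2.le) dvd_rfl
    refine dvd_trans ?_ h1
    rw [Finset.prod_pow_eq_pow_sum]
    apply pow_dvd_pow
    rw [Fin.sum_univ_eq_sum_range (fun i => i)]
    calc 10 = ∑ i ∈ Finset.range 5, i := by decide
      _ ≤ ∑ i ∈ Finset.range n, i := Finset.sum_le_sum_of_subset (Finset.range_mono hn5)

theorem psp_not_exc {F : Type*} [Field F] [Fintype F] {m : ℕ} (hm : 2 ≤ m)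
    (h2 : m = 2 → 3 ≤ Fintype.card F) : ¬ Exc (PSp m F) := by
  intro h
  have hN := h.card
  have hq := two_le_card F
  have h1 := S0245.result (F := F) rfl m
  have h2' := S0246.result (F := F) rfl m (by omega)
  have h3 := Subgroup.card_mul_index (Subgroup.center ↥(Matrix.symplecticGroup (Fin m) F))
  rw [h1, h2'] at h3
  set q := Fintype.card F with hqdef
  have hord : Nat.gcd 2 (q - 1) * Nat.card (PSp m F) = q ^ (m ^ 2) * ∏ i ∈ Finset.range m, (q ^ (2 * (i + 1)) - 1) := h3
  have hd : q ^ (m ^ 2) ∣ Nat.card (PSp m F) := by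
    have hc : (Nat.gcd 2 (q - 1)).Coprime (q ^ (m ^ 2)) := by
      apply Nat.Coprime.pow_right
      exact cop_of_dvd_sub hq 1 one_ne_zero (by rw [pow_one]; exact Nat.gcd_dvd_right _ _)
    apply hc.symm.dvd_of_dvd_mul_left
    rw [hord]
    exact dvd_mul_right _ _
  rcases Nat.lt_or_ge m 3 with hm3 | hm3
  · have hm2 : m = 2 := by omega
    subst hm2
    have hq3 := h2 rfl
    norm_num at hd
    have h4 := Nat.le_of_dvd (by omega) hd
    have hq11 : q ≤ 11 := by
      by_contra hlt
      push Not at hlt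
      have : 12 ^ 4 ≤ q ^ 4 := Nat.pow_le_pow_left hlt 4
      omega
    interval_cases q <;> norm_num only [] at hd <;> (clear * - hN h2 hd; omega)
  · exact pow_dvd_small hq (k := m ^ 2) (by nlinarith only [hm3]) hN hd

theorem psu_not_exc {F : Type*} [Field F] [Fintype F] {n q : ℕ} (hF : Fintype.card F = q ^ 2)
    (hn : 3 ≤ n) (hnq : ¬ (n = 3 ∧ q = 2)) : ¬ Exc (PSU n F q) := by
  intro h
  have hN := h.card
  have hq : 2 ≤ q := by
    have := two_le_card F
    rw [hF] at this
    by_contra hlt
    push Not at hlt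
    interval_cases q <;> omega
  have hord := S0280.result (F := F) hF n (by omega)
  have hd : q ^ (n * (n - 1) / 2) ∣ Nat.card (PSU n F q) := by
    have hc : (Nat.gcd n (q + 1) * (q + 1)).Coprime (q ^ (n * (n - 1) / 2)) := by
      apply Nat.Coprime.pow_right
      apply Nat.Coprime.mul_left
      · exact cop_of_dvd_add 1 one_ne_zero (by rw [pow_one]; exact Nat.gcd_dvd_right _ _)
      · exact cop_of_dvd_add 1 one_ne_zero (by rw [pow_one])
    apply hc.symm.dvd_of_dvd_mul_left
    rw [mul_assoc, hord]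
    exact dvd_mul_right _ _
  rcases Nat.lt_or_ge n 5 with hn5 | hn5
  · interval_cases n
    · norm_num at hd hnq
      have h4 := Nat.le_of_dvd (by omega) hd
      have hq27 : q ≤ 27 := by
        by_contra hlt
        push Not at hlt
        have : 28 ^ 3 ≤ q ^ 3 := Nat.pow_le_pow_left hlt 3
        omega
      have hq4 : q = 4 := by
        by_contra h4
        interval_cases q <;> first | exact h4 rfl | exact hnq rfl | (clear * - hN hd hnq h4; omega)
      subst hq4
      simp only [Finset.prod_range_succ, Finset.prod_range_zero] at hord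
      norm_num only [_root_.one_mul, _root_.ite_true, _root_.ite_false] at hord
      omega
    · norm_num at hd
      have h4 := Nat.le_of_dvd (by omega) hd
      have hq5 : q ≤ 5 := by
        by_contra hlt
        push Not at hlt
        have : 6 ^ 6 ≤ q ^ 6 := Nat.pow_le_pow_left hlt 6
        omega
      have hq2 : q = 2 := by
        by_contra h4
        interval_cases q <;> norm_num only [] at hd h4 <;> omega
      subst hq2
      simp only [Finset.prod_range_succ, Finset.prod_range_zero] at hord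
      norm_num only [_root_.one_mul, _root_.ite_true, _root_.ite_false] at hord
      omega
  · refine pow_dvd_small hq (k := n * (n - 1) / 2) ?_ hN hd
    have h1 : 5 * 4 ≤ n * (n - 1) := Nat.mul_le_mul hn5 (by omega)
    omega

theorem pomegaOdd_not_exc {F : Type*} [Field F] [Fintype F] {m : ℕ} (hm : 3 ≤ m)
    (hodd : Odd (Fintype.card F)) : ¬ Exc (POmega F (quadFormOdd m F)) := by
  intro h
  have hN := h.card
  have hq := two_le_card F
  have hord := S0292.result (F := F) rfl hodd m hm
  refine pow_dvd_small hq (k := m ^ 2) (by nlinarith only [hm]) hN ?_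
  have hc : (2 : ℕ).Coprime (Fintype.card F ^ (m ^ 2)) := by
    apply Nat.Coprime.pow_right
    exact (Nat.coprime_two_left).2 hodd
  apply hc.symm.dvd_of_dvd_mul_left
  rw [hord]
  exact dvd_mul_right _ _

theorem pomegaPlus_not_exc {F : Type*} [Field F] [Fintype F] {m : ℕ} (hm : 4 ≤ m) :
    ¬ Exc (POmega F (quadFormPlus m F)) := by
  intro h
  have hN := h.card
  have hq := two_le_card F
  have hord := S0293.result (F := F) rfl m hm
  have hm1 : 4 * 3 ≤ m * (m - 1) := Nat.mul_le_mul hm (by omega)
  refine pow_dvd_small hq (k := m * (m - 1)) (by omega) hN ?_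
  have hc : (Nat.gcd 4 (Fintype.card F ^ m - 1)).Coprime (Fintype.card F ^ (m * (m - 1))) := by
    apply Nat.Coprime.pow_right
    exact cop_of_dvd_sub hq m (by omega) (Nat.gcd_dvd_right _ _)
  apply hc.symm.dvd_of_dvd_mul_left
  rw [hord, mul_assoc]
  exact dvd_mul_right _ _

theorem pomegaMinus_not_exc {F : Type*} [Field F] [Fintype F] {m : ℕ} (hm : 4 ≤ m) (a b : F)
    (hab : ∀ z₁ z₂ : F, z₁ ^ 2 + a * z₁ * z₂ + b * z₂ ^ 2 = 0 → z₁ = 0 ∧ z₂ = 0) :
    ¬ Exc (POmega F (quadFormMinus (m - 1) F a b)) := by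
  intro h
  have hN := h.card
  have hq := two_le_card F
  have hord := S0294.result (F := F) rfl m hm a b hab
  have hm1 : 4 * 3 ≤ m * (m - 1) := Nat.mul_le_mul hm (by omega)
  refine pow_dvd_small hq (k := m * (m - 1)) (by omega) hN ?_
  have hc : (Nat.gcd 4 (Fintype.card F ^ m + 1)).Coprime (Fintype.card F ^ (m * (m - 1))) := by
    apply Nat.Coprime.pow_right
    exact cop_of_dvd_add m (by omega) (Nat.gcd_dvd_right _ _)
  apply hc.symm.dvd_of_dvd_mul_left
  rw [hord, mul_assoc]
  exact dvd_mul_right _ _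

end Cfsg.Agent.H106.RC

private theorem dce_e952704e2d65 : _root_.True := by
  try have : _root_.True := by simp only [_root_.Cfsg.POmega.congr_simp]
  exact _root_.True.intro
end

-- part: H520/RC/MHom
section
set_option linter.all false
open scoped Cfsg.Agent.FastGrp

/-!
# The M-rule for a homomorphism `j : X →* G` with central kernel (helper520)

* `mrule_hom` : `X` perfect, `f : X →* S'` onto a simple classical group, not exceptional, with kernel the centre,
  `j.ker ≤ center X`;
* `sl_perfect`, `sl_simple`, `sl_ncomm`, `sl_cl`, `sl_not_exc` : the special linear group of a space of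
  dimension at least 3.
-/

set_option autoImplicit false
open Cfsg

namespace Cfsg.Agent.H520.RC

open MulAction Cfsg.Agent.H106.RC

/-- **The M-rule for a homomorphism.** -/
theorem mrule_hom {G S S' X Ω ι : Type} [Group G] [Finite G] [Group S] [Finite S] [Group S'] [Finite S']
    [Group X] [MulAction G Ω] [Finite ι] (hIH : IH (Nat.card S)) {N : Subgroup G} (e : N ≃* S)
    (j : X →* G) (hjN : j.range ≤ N) (hne : j.range ≠ N) (hperf : commutator X = ⊤)
    (f : X →* S') (hf : Function.Surjective f) (hfk : f.ker = Subgroup.center X) (hjk : j.ker ≤ Subgroup.center X)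
    (h1 : IsSimpleGroup S') (h2 : ¬ IsMulCommutative S') (h3 : Cl S') (h4 : ¬ Exc S')
    {x : ι → G} {r : ι → ℕ} (hx : PF x r) (hcov : Cov Ω x)
    (hnorm : ∀ i a, ∃ b, x i * j a * (x i)⁻¹ = j b) (ω : Ω) :
    (∀ a, j a • ω = ω) ∨ ∃ i, (∀ a, x i * j a = j a * x i) ∧ x i • ω = ω := by
  have hp : ⁅j.range, j.range⁆ = j.range := by
    rw [commutator_def] at hperf
    rw [MonoidHom.range_eq_map j, ← Subgroup.map_commutator, hperf]
  have hle : j.ker ≤ f.ker := by rw [hfk]; exact hjk
  let π : ↥j.range →* S' :=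
    (QuotientGroup.lift j.ker f hle).comp (QuotientGroup.quotientKerEquivRange j).symm.toMonoidHom
  have hπj : ∀ a, π ⟨j a, a, rfl⟩ = f a := by
    intro a
    have h5 : (QuotientGroup.quotientKerEquivRange j).symm ⟨j a, a, rfl⟩ = (a : X ⧸ j.ker) := by
      rw [MulEquiv.symm_apply_eq]
      rfl
    show QuotientGroup.lift j.ker f hle ((QuotientGroup.quotientKerEquivRange j).symm ⟨j a, a, rfl⟩) = f a
    rw [h5]
    rfl
  have hπ : Function.Surjective π := by
    intro s
    obtain ⟨a, rfl⟩ := hf s
    exact ⟨_, hπj a⟩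
  have hker : π.ker ≤ Subgroup.center ↥j.range := by
    rintro ⟨_, a, rfl⟩ hm
    rw [MonoidHom.mem_ker, hπj] at hm
    have ha : a ∈ Subgroup.center X := by rw [← hfk]; exact hm
    rw [Subgroup.mem_center_iff]
    rintro ⟨_, b, rfl⟩
    apply Subtype.ext
    show j b * j a = j a * j b
    rw [← map_mul, ← map_mul, Subgroup.mem_center_iff.1 ha b]
  have hn : ∀ i, x i ∈ Subgroup.normalizer ((j.range : Subgroup G) : Set G) := by
    intro i
    have hsub : ∀ m ∈ j.range, x i * m * (x i)⁻¹ ∈ j.range := by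
      rintro _ ⟨a, rfl⟩
      obtain ⟨b, hb⟩ := hnorm i a
      exact ⟨b, hb.symm⟩
    rw [Subgroup.mem_normalizer_iff]
    intro m
    refine ⟨hsub m, fun hm => ?_⟩
    -- a power of `x i` is its inverse
    have hpow : ∀ k : ℕ, ∀ n ∈ j.range, x i ^ k * n * (x i ^ k)⁻¹ ∈ j.range := by
      intro k
      induction k with
      | zero => intro n hn; simpa using hn
      | succ k ih =>
        intro n hn
        have h5 := hsub _ (ih n hn)
        have e5 : x i ^ (k + 1) * n * (x i ^ (k + 1))⁻¹ = x i * (x i ^ k * n * (x i ^ k)⁻¹) * (x i)⁻¹ := by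
          rw [pow_succ']; group
        rw [e5]; exact h5
    have h6 := hpow (r i - 1) _ hm
    have h7 : x i ^ (r i - 1) * x i = 1 := by
      rw [← pow_succ, Nat.sub_add_cancel (hx.prime i).one_le, hx.pow]
    have h8 : x i ^ (r i - 1) = (x i)⁻¹ := eq_inv_of_mul_eq_one_left h7
    rw [h8] at h6
    have e9 : (x i)⁻¹ * (x i * m * (x i)⁻¹) * (x i)⁻¹⁻¹ = m := by group
    rwa [e9] at h6
  rcases mrule_IH hIH e hjN hne hp π hπ hker h1 h2 h3 h4 hx hcov hn ω with h | ⟨i, hi, hiω⟩
  · exact Or.inl fun a => h ⟨a, rfl⟩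
  · exact Or.inr ⟨i, fun a => hi _ ⟨a, rfl⟩, hiω⟩

section sl

variable {F W : Type*} [Field F] [AddCommGroup W] [Module F W] [FiniteDimensional F W]

theorem sl_perfect (h : 3 ≤ Module.finrank F W) : commutator (SpecialLinearGroup F W) = ⊤ := by
  let e := Matrix.SpecialLinearGroup.toLin_equiv (Module.finBasis F W)
  have h1 : commutator (Matrix.SpecialLinearGroup (Fin (Module.finrank F W)) F) = ⊤ :=
    Cfsg.Agent.LieClassical.SLGen.commutator_eq_top (by rw [Fintype.card_fin]; exact h)
  have h2 : (commutator (Matrix.SpecialLinearGroup (Fin (Module.finrank F W)) F)).map e.toMonoidHom =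
      commutator (SpecialLinearGroup F W) := by
    rw [commutator_def, commutator_def, Subgroup.map_commutator, ← MonoidHom.range_eq_map,
      MonoidHom.range_eq_top.2 e.surjective]
  rw [← h2, h1, ← MonoidHom.range_eq_map, MonoidHom.range_eq_top.2 e.surjective]

/-- onto `PSL` -/
theorem exists_sl_hom : ∃ f : SpecialLinearGroup F W →*
      Matrix.ProjectiveSpecialLinearGroup (Fin (Module.finrank F W)) F,
    Function.Surjective f ∧ f.ker = Subgroup.center (SpecialLinearGroup F W) := by
  let e := Matrix.SpecialLinearGroup.toLin_equiv (Module.finBasis F W)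
  refine ⟨(QuotientGroup.mk' (Subgroup.center _)).comp e.symm.toMonoidHom,
    (QuotientGroup.mk'_surjective _).comp e.symm.surjective, ?_⟩
  ext a
  rw [MonoidHom.mem_ker]
  show (QuotientGroup.mk (e.symm a) : Matrix.SpecialLinearGroup (Fin (Module.finrank F W)) F ⧸ _) = 1 ↔ _
  rw [QuotientGroup.eq_one_iff, Subgroup.mem_center_iff, Subgroup.mem_center_iff]
  constructor
  · intro h b
    have h1 := h (e.symm b)
    rw [← map_mul, ← map_mul] at h1
    exact e.symm.injective h1
  · intro h b
    apply e.injective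
    rw [map_mul, map_mul, MulEquiv.apply_symm_apply, h]

end sl

theorem psl_simple3 {F : Type*} [Field F] {n : ℕ} (h : 3 ≤ n) :
    IsSimpleGroup (Matrix.ProjectiveSpecialLinearGroup (Fin n) F) :=
  Cfsg.Agent.LieClassical.SLGen.psl_isSimpleGroup (by rw [Fintype.card_fin]; exact h)

theorem psl_ncomm3 {F : Type*} [Field F] {n : ℕ} (h : 3 ≤ n) :
    ¬ IsMulCommutative (Matrix.ProjectiveSpecialLinearGroup (Fin n) F) := by
  intro hc
  have hs := psl_simple3 (F := F) h
  have h1 : commutator (Matrix.SpecialLinearGroup (Fin n) F) = ⊤ :=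
    Cfsg.Agent.LieClassical.SLGen.commutator_eq_top (by rw [Fintype.card_fin]; exact h)
  have h2 : commutator (Matrix.ProjectiveSpecialLinearGroup (Fin n) F) = ⊤ := by
    have h3 : Group.IsPerfect (Matrix.SpecialLinearGroup (Fin n) F) := ⟨h1⟩
    have h4 : Group.IsPerfect (Matrix.ProjectiveSpecialLinearGroup (Fin n) F) := inferInstance
    exact h4.commutator_eq_top
  have h3 : commutator (Matrix.ProjectiveSpecialLinearGroup (Fin n) F) = ⊥ := by
    rw [commutator_def, Subgroup.commutator_eq_bot_iff_le_centralizer]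
    intro x _
    rw [Subgroup.mem_centralizer_iff]
    intro y _
    exact hc.is_comm.comm y x
  rw [h2] at h3
  have := hs.toNontrivial
  exact top_ne_bot h3

theorem psl_cl3 {F : Type} [Field F] [Finite F] {n : ℕ} (h : 3 ≤ n) :
    Cl (Matrix.ProjectiveSpecialLinearGroup (Fin n) F) := by
  have : Fintype F := Fintype.ofFinite F
  exact Or.inl ⟨F, inferInstance, inferInstance, n, by omega, fun _ => by omega, ⟨MulEquiv.refl _⟩⟩

theorem psl_not_exc3 {F : Type*} [Field F] [Finite F] {n : ℕ} (h : 3 ≤ n) (h42 : ¬ (n = 4 ∧ Nat.card F = 2)) :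
    ¬ Exc (Matrix.ProjectiveSpecialLinearGroup (Fin n) F) := by
  have : Fintype F := Fintype.ofFinite F
  intro hx
  have h0 := Nat.card_eq_fintype_card (α := F)
  rcases psl_exc (by omega) hx with ⟨h1, -⟩ | ⟨h1, h2⟩
  · omega
  · exact h42 ⟨h1, by omega⟩

end Cfsg.Agent.H520.RC
end
end
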